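import Groth.Agent.OneMotFF.SA
import Groth.Agent.Chevalley.CommAff.SubSA
import Groth.Agent.Chevalley.CommAff.Finite
import Groth.Agent.GrpSchLib.KernelGrp
import Groth.Agent.GrpSchLib.IdentityComp
import Groth.Agent.GrpSchLib.SmoothReduced
import Groth.Agent.GrpSchLib.Cartier
import Groth.Agent.AVSubLib.Component

/-!
# A homomorphism of semi-abelian varieties injective on torsion points is a monomorphism
-/

universe u

set_option autoImplicit false
set_option backward.isDefEq.respectTransparency false
set_option backward.isDefEq.respectTransparency.types false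
set_option linter.style.haveILetI false
set_option maxHeartbeats 1000000

open CategoryTheory CategoryTheory.Limits MonoidalCategory CartesianMonoidalCategory MonObj AlgebraicGeometry

namespace Groth.Agent.OneMotFF

variable {k : Type u} [Field k] [IsAlgClosed k]

local notation "pt₀" => (𝟙_ (Over (Spec (CommRingCat.of k))))
local notation "c₀" => IsLocalRing.closedPoint k

/-- Morphisms from a smooth scheme agree as soon as they agree on rational points. -/
theorem hom_ext_of_points {W X : Over (Spec (CommRingCat.of k))} [Smooth W.hom]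
    [LocallyOfFiniteType X.hom] [IsSeparated X.hom] (a b : W ⟶ X) (h : ∀ s : pt₀ ⟶ W, s ≫ a = s ≫ b) : a = b := by
  haveI : IsReduced W.left := GrpSchLib.isReduced_of_smooth_field W.hom
  haveI : LocallyOfFiniteType (a.left ≫ X.hom) := by rw [Over.w a]; infer_instance
  refine Over.OverMorphism.ext (ext_of_apply_eq X.hom Set.univ isOpen_univ.isLocallyClosed dense_univ
    (fun x _ hx => ?_) ((Over.w a).trans (Over.w b).symm))
  obtain ⟨s, rfl⟩ := AVSubLib.exists_pt hx
  exact congrArg (fun t : pt₀ ⟶ X => t.left c₀) (h s)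

/-- A semi-abelian variety in characteristic zero without rational points of order two is a point. -/
theorem subsingleton_of_no_two [CharZero k] {G : Over (Spec (CommRingCat.of k))} [GrpObj G] [IsCommMonObj G]
    [LocallyOfFiniteType G.hom] [QuasiCompact G.hom] (hG : Chevalley.CommAff.IsSA G)
    (h : ∀ x : pt₀ ⟶ G, x ^ 2 = 1 → x = 1) : Subsingleton G.left := by
  obtain ⟨_, _⟩ := hG.props
  haveI := GrpSchLib.AntiAffine.isSeparated_grp G
  haveI := Chevalley.CommAff.isMonHom_pow G 2
  obtain ⟨K, _, κ, hκ, hκc, -, hK⟩ := GrpSchLib.exists_kernel ((𝟙 G) ^ 2)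
  haveI := hκ; haveI := hκc
  haveI : LocallyOfFiniteType K.hom := by rw [← Over.w κ]; infer_instance
  haveI : Smooth K.hom := GrpSchLib.smooth_of_charZero K
  have hκ1 : κ = 1 := hom_ext_of_points κ 1 fun s => by
    rw [MonObj.comp_one]
    refine h _ ?_
    have e := congrArg (fun t => s ≫ t) hK.w
    simp only [MonObj.comp_pow, Category.comp_id] at e
    rw [e, ← Category.assoc, toUnit_unique (s ≫ toUnit K) (toUnit _), Hom.one_def]
  haveI : IsFinite G.hom := Chevalley.CommAff.isFinite_of_torsion_trivial hG one_lt_two fun Y y hy => by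
    have e : y ≫ (𝟙 G) ^ 2 = toUnit Y ≫ η[G] := by rw [MonObj.comp_pow, Category.comp_id, hy, Hom.one_def]
    exact (hK.lift_fst y (toUnit Y) e).symm.trans ((congrArg (fun q => hK.lift y (toUnit Y) e ≫ q) hκ1).trans (MonObj.comp_one _))
  haveI : JacobsonSpace G.left := LocallyOfFiniteType.jacobsonSpace G.hom
  haveI : Finite G.left := by
    exact Set.finite_univ_iff.1 ((G.hom.finite_preimage_singleton c₀).subset fun x _ =>
      Subsingleton.elim (α := PrimeSpectrum k) _ _)
  haveI : DiscreteTopology G.left := inferInstance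
  exact PreconnectedSpace.trivial_of_discrete

/-- Injectivity on torsion points gives a monomorphism. -/
theorem mono_of_torsion [CharZero k] {G H : Over (Spec (CommRingCat.of k))} [GrpObj G] [IsCommMonObj G]
    [LocallyOfFiniteType G.hom] [QuasiCompact G.hom] [GrpObj H] (hG : Chevalley.CommAff.IsSA G)
    (φ : G ⟶ H) [IsMonHom φ] (h : ∀ (n : ℕ) (a : pt₀ ⟶ G), 0 < n → a ^ n = 1 → a ≫ φ = 1 → a = 1) :
    Mono φ := by
  haveI := GrpSchLib.AntiAffine.isSeparated_grp H
  haveI := GrpSchLib.AntiAffine.isSeparated_grp G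
  obtain ⟨K, _, jK, hjK, hjKc, -, hK⟩ := GrpSchLib.exists_kernel φ
  haveI := hjK; haveI := hjKc
  haveI : Mono jK := Over.mono_of_mono_left _
  haveI : IsCommMonObj K := Chevalley.CommAff.isCommMonObj_sub jK
  haveI : LocallyOfFiniteType K.hom := by rw [← Over.w jK]; infer_instance
  haveI : QuasiCompact K.hom := by rw [← Over.w jK]; infer_instance
  haveI : Smooth K.hom := GrpSchLib.smooth_of_charZero K
  haveI : CompactSpace K.left := (quasiCompact_iff_compactSpace K.hom).mp inferInstance
  haveI : IsLocallyNoetherian K.left := LocallyOfFiniteType.isLocallyNoetherian K.hom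
  haveI : AlgebraicGeometry.IsNoetherian K.left := ⟨⟩
  have hker : ∀ (x : pt₀ ⟶ K), (x ≫ jK) ≫ φ = 1 := fun x => by
    rw [Category.assoc, hK.w, ← Category.assoc, toUnit_unique (x ≫ toUnit K) (toUnit _), Hom.one_def]
  have htor : ∀ (n : ℕ) (x : pt₀ ⟶ K), 0 < n → x ^ n = 1 → x = 1 := fun n x hn hx => by
    rw [← cancel_mono jK, MonObj.one_comp]
    exact h n _ hn (by rw [← MonObj.pow_comp, hx, MonObj.one_comp]) (hker x)
  obtain ⟨K0, _, i0, _, hi0c, -, hr, hgi, hc⟩ := GrpSchLib.exists_identityComponent (G := K)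
  haveI := hi0c; haveI := hgi; haveI := hc
  haveI : Mono i0 := Over.mono_of_mono_left _
  haveI : LocallyOfFiniteType K0.hom := by rw [← Over.w i0]; infer_instance
  haveI : QuasiCompact K0.hom := (quasiCompact_iff_compactSpace K0.hom).mpr inferInstance
  haveI : Smooth K0.hom := GrpSchLib.smooth_of_charZero K0
  haveI : IsCommMonObj K0 := Chevalley.CommAff.isCommMonObj_sub i0
  haveI : IrreducibleSpace K0.left := GeometricallyIrreducible.irreducibleSpace_of_subsingleton K0.hom
  haveI : IsClosedImmersion (i0 ≫ jK).left := inferInstanceAs (IsClosedImmersion (i0.left ≫ jK.left))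
  have hK0 : Chevalley.CommAff.IsSA K0 := hG.sub (i0 ≫ jK)
  haveI : Subsingleton K0.left := subsingleton_of_no_two hK0 fun x hx => by
    rw [← cancel_mono i0, MonObj.one_comp]
    exact htor 2 _ two_pos (by rw [← MonObj.pow_comp, hx, MonObj.one_comp])
  -- rational points are separated by the connected components
  have hsep : ∀ x y : pt₀ ⟶ K, ConnectedComponents.mk (x.left c₀) = ConnectedComponents.mk (y.left c₀) → x = y := by
    intro x y hxy
    let t : K ⟶ K := (toUnit K ≫ y⁻¹) * 𝟙 K
    have e : ∀ z : pt₀ ⟶ K, z ≫ t = y⁻¹ * z := fun z => by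
      simp only [t, MonObj.comp_mul, Category.comp_id]
      rw [← Category.assoc, toUnit_unique (z ≫ toUnit K) (𝟙 _), Category.id_comp]
    have himg : (x ≫ t).left c₀ ∈ connectedComponent ((y ≫ t).left c₀) :=
      t.left.continuous.image_connectedComponent_subset _ ⟨_, ConnectedComponents.coe_eq_coe'.mp hxy, rfl⟩
    rw [e, e, inv_mul_cancel] at himg
    rw [show (1 : pt₀ ⟶ K) = η[K] by rw [MonObj.one_eq_one], ← hr] at himg
    obtain ⟨w, hw⟩ := himg
    have he : i0.left (η[K0].left c₀) = η[K].left c₀ :=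
      congrArg (fun z : pt₀ ⟶ K => z.left c₀) (IsMonHom.one_hom i0)
    rw [Subsingleton.elim w (η[K0].left c₀), he] at hw
    have : y⁻¹ * x = 1 := AVSubLib.pt_ext (hw.symm.trans (by rw [MonObj.one_eq_one]))
    exact (inv_mul_eq_one.mp this).symm
  haveI := AVSubLib.finite_components K.left
  haveI : Finite (pt₀ ⟶ K) := Finite.of_injective _ hsep
  have hjK1 : jK = 1 := hom_ext_of_points jK 1 fun s => by
    obtain ⟨n, hn, hsn⟩ := (isOfFinOrder_of_finite s).exists_pow_eq_one
    rw [htor n s hn hsn, MonObj.one_comp, MonObj.comp_one]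
  refine ⟨fun {Z} a b hab => div_eq_one.mp ?_⟩
  have e : (a / b) ≫ φ = toUnit Z ≫ η[H] := by rw [GrpObj.div_comp, hab, div_self', Hom.one_def]
  exact (hK.lift_fst (a / b) (toUnit Z) e).symm.trans ((congrArg (fun q => hK.lift (a / b) (toUnit Z) e ≫ q) hjK1).trans (MonObj.comp_one _))

end Groth.Agent.OneMotFF
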