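import Groth.Agent.OneMotFF.Pts
import Groth.Agent.FBaseLib.Basic
import Groth.Agent.AlgSpDec.OneFlat
import Groth.Agent.LargeGrpA1.Basic

/-!
# Lattices over an algebraically closed field
-/

universe u

set_option autoImplicit false
set_option backward.isDefEq.respectTransparency false
set_option backward.isDefEq.respectTransparency.types false
set_option linter.style.haveILetI false

open CategoryTheory CategoryTheory.Limits MonoidalCategory CartesianMonoidalCategory MonObj AlgebraicGeometry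
open Groth.Agent.DSPtsLib

namespace Groth.Agent.OneMotFF

variable {k : Type u} [Field k] [IsAlgClosed k]

local notation "pt₀" => (𝟙_ (Over (Spec (CommRingCat.of k))))

/-- The rational points of a lattice form a free abelian group and separate morphisms. -/
theorem lattice_props {L : Over (Spec (CommRingCat.of k))} [GrpObj L] (hL : OneMot.IsLattice L) :
    (∃ (r : ℕ) (ψ : Multiplicative (Fin r → ℤ) →* (pt₀ ⟶ L)), Function.Bijective ψ) ∧
      ∀ {B : Over (Spec (CommRingCat.of k))} [IsSeparated B.hom] (a b : L ⟶ B),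
        (∀ x : pt₀ ⟶ L, x ≫ a = x ≫ b) → a = b := by
  obtain ⟨S', f, hf, ⟨w, -⟩, r, e, he⟩ := hL (IsLocalRing.closedPoint k)
  haveI := hf
  haveI : JacobsonSpace S' := LocallyOfFiniteType.jacobsonSpace f
  obtain ⟨y, -, hy⟩ := nonempty_inter_closedPoints (X := S') ⟨w, Set.mem_univ w⟩ isOpen_univ.isLocallyClosed
  let s := pointOfClosedPoint f y hy
  have hs : s ≫ f = 𝟙 _ := pointOfClosedPoint_comp f y hy
  let M := Multiplicative (Fin r → ℤ)
  let Y : Over S' := Over.mk s
  let uInv : pt₀ ⟶ (Over.map f).obj Y := Over.homMk (𝟙 _) (by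
    show 𝟙 _ ≫ s ≫ f = 𝟙 _
    rw [Category.id_comp, hs])
  let ψ₀ : M → (pt₀ ⟶ L) := fun m => uInv ≫ theta f (toUnit Y ≫ TwC.pt S' M m ≫ e.inv)
  have hψ₀ : ∀ m n, ψ₀ (m * n) = ψ₀ m * ψ₀ n := fun m n => by
    simp only [ψ₀]
    rw [← he m n, MonObj.comp_mul, theta_mul, MonObj.comp_mul]
  let ψ : M →* (pt₀ ⟶ L) := MonoidHom.mk' ψ₀ hψ₀
  have hleft : ∀ m, (ψ₀ m).left = s ≫ Sigma.ι (fun _ : M => S') m ≫ e.inv.left ≫ pullback.fst L.hom f := by
    intro m
    show 𝟙 _ ≫ (s ≫ Sigma.ι (fun _ : M => S') m ≫ e.inv.left) ≫ pullback.fst L.hom f = _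
    rw [Category.id_comp]
    simp only [Category.assoc]
  have hsurj : Function.Surjective ψ := by
    intro x
    let g := (Over.mapPullbackAdj f).homEquiv Y L (toUnit _ ≫ x)
    let q := (g ≫ e.hom).left
    have hq : q ≫ Sigma.desc (fun _ : M => 𝟙 S') = s := Over.w (g ≫ e.hom)
    obtain ⟨m, z, hz⟩ : ∃ (m : M) (z : S'), Sigma.ι (fun _ : M => S') m z = q (IsLocalRing.closedPoint k) := by
      obtain ⟨m, z, hz⟩ := (sigmaOpenCover (fun _ : M => S')).exists_eq (q (IsLocalRing.closedPoint k))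
      exact ⟨m, z, hz⟩
    have hr : Set.range q ⊆ Set.range (Sigma.ι (fun _ : M => S') m) := by
      rintro _ ⟨c, rfl⟩
      exact ⟨z, by rw [hz, Subsingleton.elim (α := PrimeSpectrum k) c (IsLocalRing.closedPoint k)]⟩
    refine ⟨m, ?_⟩
    have hl : IsOpenImmersion.lift (Sigma.ι (fun _ : M => S') m) q hr = s := by
      have h1 := congrArg (· ≫ Sigma.desc (fun _ : M => 𝟙 S'))
        (IsOpenImmersion.lift_fac (Sigma.ι (fun _ : M => S') m) q hr)
      simp only [Category.assoc, Sigma.ι_desc, Category.comp_id] at h1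
      exact h1.trans hq
    have hg : toUnit Y ≫ TwC.pt S' M m = g ≫ e.hom := by
      refine Over.OverMorphism.ext ?_
      show s ≫ Sigma.ι (fun _ : M => S') m = q
      conv_lhs => rw [← hl]
      exact IsOpenImmersion.lift_fac _ _ _
    show uInv ≫ theta f (toUnit Y ≫ TwC.pt S' M m ≫ e.inv) = x
    rw [← Category.assoc (toUnit Y), hg, Category.assoc g, e.hom_inv_id, Category.comp_id, theta,
      Equiv.symm_apply_apply, ← Category.assoc, toUnit_unique (uInv ≫ toUnit _) (𝟙 _), Category.id_comp]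
  have hinj : Function.Injective ψ := by
    intro m n hmn
    have h1 : theta f (toUnit Y ≫ TwC.pt S' M m ≫ e.inv) = theta f (toUnit Y ≫ TwC.pt S' M n ≫ e.inv) := by
      haveI : IsIso uInv := ⟨toUnit _, toUnit_unique _ _, by
        refine Over.OverMorphism.ext ?_
        show (toUnit ((Over.map f).obj Y)).left ≫ 𝟙 _ = 𝟙 _
        rw [Category.comp_id]
        exact hs⟩
      exact (cancel_epi uInv).1 hmn
    have h2 := congrArg (fun z => (z ≫ e.hom).left (IsLocalRing.closedPoint k)) ((theta_bijective f).injective h1)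
    simp only [Category.assoc, e.inv_hom_id, Category.comp_id] at h2
    change Sigma.ι (fun _ : M => S') m (s _) = Sigma.ι (fun _ : M => S') n (s _) at h2
    exact congrArg Sigma.fst ((sigmaι_eq_iff _ _ _ _ _).1 h2)
  refine ⟨⟨r, ψ, hinj, hsurj⟩, fun {B} _ a b hab => ?_⟩
  -- the rational points are schematically dense
  let σ := ∐ fun _ : M => S'
  haveI : IsReduced S' := AlgSpDec.isReduced_of_etaleMor f
  haveI : IsReduced σ := @IsReduced.of_openCover _ (sigmaOpenCover _) fun _ => ‹IsReduced S'›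
  let p : σ ⟶ L.left := e.inv.left ≫ pullback.fst L.hom f
  haveI : Flat f := inferInstance
  haveI : Surjective f := ⟨fun c => ⟨w, Subsingleton.elim (α := PrimeSpectrum k) _ _⟩⟩
  haveI : Surjective p := inferInstance
  haveI : Flat p := inferInstance
  haveI : IsReduced L.left := FBaseLib.isReduced_of_flat_surjective p
  refine Over.OverMorphism.ext (LargeGrpA1.hom_ext_of_points B.hom a.left b.left
    ((Over.w a).trans (Over.w b).symm) fun l => ?_)
  obtain ⟨c, hc1, hc2⟩ := Scheme.Pullback.exists_preimage_pullback (f := L.hom) (g := f) l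
    (s (IsLocalRing.closedPoint k)) (Subsingleton.elim (α := PrimeSpectrum k) _ _)
  obtain ⟨m, z, hz⟩ : ∃ (m : M) (z : S'), Sigma.ι (fun _ : M => S') m z = e.hom.left c := by
    obtain ⟨m, z, hz⟩ := (sigmaOpenCover (fun _ : M => S')).exists_eq (e.hom.left c)
    exact ⟨m, z, hz⟩
  have hzs : z = s (IsLocalRing.closedPoint k) := by
    have h1 := congrArg (fun d => Sigma.desc (fun _ : M => 𝟙 S') d) hz
    simp only at h1
    rw [← Scheme.Hom.comp_apply, Sigma.ι_desc] at h1
    refine h1.trans ?_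
    rw [← hc2]
    show (e.hom.left ≫ (TwC.const S' M).hom) c = (Red.bc f L).hom c
    rw [Over.w e.hom]
  refine ⟨k, inferInstance, (ψ₀ m).left, ?_, congrArg CommaMorphism.left (hab (ψ₀ m))⟩
  rw [hleft]
  show pullback.fst L.hom f (e.inv.left (Sigma.ι (fun _ : M => S') m (s (IsLocalRing.closedPoint k)))) = l
  rw [← hzs, hz, ← Scheme.Hom.comp_apply, ← Over.comp_left, e.hom_inv_id]
  exact hc1

/-- A point divisible by every integer is trivial. -/
theorem eq_one_of_forall_pow {L : Over (Spec (CommRingCat.of k))} [GrpObj L] (hL : OneMot.IsLattice L)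
    (x : pt₀ ⟶ L) (h : ∀ m : ℕ, 0 < m → ∃ y : pt₀ ⟶ L, y ^ m = x) : x = 1 := by
  obtain ⟨⟨r, ψ, hψ⟩, -⟩ := lattice_props hL
  obtain ⟨v, rfl⟩ := hψ.2 x
  suffices v = 1 by rw [this, map_one]
  refine Multiplicative.toAdd.injective (funext fun i => ?_)
  obtain ⟨y, hy⟩ := h ((Multiplicative.toAdd v i).natAbs + 1) (Nat.succ_pos _)
  obtain ⟨z, rfl⟩ := hψ.2 y
  rw [← map_pow] at hy
  have hzv := congrArg (fun q : Multiplicative (Fin r → ℤ) => Multiplicative.toAdd q i) (hψ.1 hy)
  simp only [toAdd_pow, Pi.smul_apply, nsmul_eq_mul] at hzv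
  show Multiplicative.toAdd v i = 0
  refine Int.eq_zero_of_dvd_of_natAbs_lt_natAbs ⟨_, hzv.symm⟩ ?_
  rw [Int.natAbs_natCast]
  exact Nat.lt_succ_self _

/-- Torsion points of a lattice are trivial. -/
theorem eq_one_of_pow_eq_one {L : Over (Spec (CommRingCat.of k))} [GrpObj L] (hL : OneMot.IsLattice L)
    (x : pt₀ ⟶ L) {m : ℕ} (hm : 0 < m) (h : x ^ m = 1) : x = 1 := by
  obtain ⟨⟨r, ψ, hψ⟩, -⟩ := lattice_props hL
  obtain ⟨v, rfl⟩ := hψ.2 x
  rw [← map_pow, ← map_one ψ] at h
  suffices v = 1 by rw [this, map_one]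
  refine Multiplicative.toAdd.injective (funext fun i => ?_)
  have hzv := congrArg (fun q : Multiplicative (Fin r → ℤ) => Multiplicative.toAdd q i) (hψ.1 h)
  simp only [toAdd_pow, Pi.smul_apply, nsmul_eq_mul, toAdd_one, Pi.zero_apply, mul_eq_zero] at hzv
  exact hzv.resolve_left (Nat.cast_ne_zero.2 hm.ne')

end Groth.Agent.OneMotFF
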