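import Groth.Agent.OneMotFF.Lattice
import Groth.Agent.AVSubLib.Component
import Groth.Agent.GrpSchLib.SmoothReduced
import Mathlib.AlgebraicGeometry.Morphisms.FlatMono
import Mathlib.AlgebraicGeometry.Morphisms.LocalFlatDescent
import Mathlib.RingTheory.Nakayama

/-!
# Homomorphisms of lattices bijective on rational points
-/

universe u

set_option autoImplicit false
set_option backward.isDefEq.respectTransparency false
set_option backward.isDefEq.respectTransparency.types false
set_option linter.style.haveILetI false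
set_option maxHeartbeats 1000000

open CategoryTheory CategoryTheory.Limits MonoidalCategory CartesianMonoidalCategory MonObj AlgebraicGeometry

namespace Groth.Agent.OneMotFF

/-- A subgroup of `ℤ^r` whose quotient is divisible is everything. -/
theorem eq_top_of_divisible {r : ℕ} (S : Submodule ℤ (Fin r → ℤ))
    (h : ∀ v, ∀ m : ℕ, 0 < m → ∃ w, v - m • w ∈ S) : S = ⊤ := by
  haveI : Module.Finite ℤ ((Fin r → ℤ) ⧸ S) := inferInstance
  have hdiv : ∀ (q : (Fin r → ℤ) ⧸ S) (m : ℕ), 0 < m → ∃ w : (Fin r → ℤ) ⧸ S, (m : ℤ) • w = q := by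
    intro q m hm
    obtain ⟨v, rfl⟩ := Submodule.Quotient.mk_surjective _ q
    obtain ⟨w, hw⟩ := h v m hm
    refine ⟨Submodule.Quotient.mk w, ?_⟩
    rw [← Submodule.Quotient.mk_smul, natCast_zsmul]
    exact ((Submodule.Quotient.eq S).2 hw).symm
  have hle : (⊤ : Submodule ℤ ((Fin r → ℤ) ⧸ S)) ≤ Ideal.span {(2 : ℤ)} • ⊤ := fun q _ => by
    obtain ⟨w, hw⟩ := hdiv q 2 two_pos
    rw [← hw]
    exact Submodule.smul_mem_smul (Ideal.mem_span_singleton_self _) Submodule.mem_top
  obtain ⟨a, ha, ha'⟩ := Submodule.exists_sub_one_mem_and_smul_eq_zero_of_fg_of_le_smul _ _ Module.Finite.fg_top hle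
  have ha0 : a ≠ 0 := fun e => by
    rw [e, zero_sub, Ideal.mem_span_singleton] at ha
    have := Int.le_of_dvd one_pos ((dvd_neg).1 ha)
    omega
  refine eq_top_iff.2 fun v _ => (Submodule.Quotient.mk_eq_zero S).1 ?_
  obtain ⟨w, hw⟩ := hdiv (Submodule.Quotient.mk v) a.natAbs (Int.natAbs_pos.2 ha0)
  rw [← hw]
  rcases Int.natAbs_eq a with e | e
  · rw [← e]; exact ha' w trivial
  · rw [show (a.natAbs : ℤ) = -a by omega, neg_smul, ha' w trivial, neg_zero]

variable {k : Type u} [Field k] [IsAlgClosed k]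

local notation "pt₀" => (𝟙_ (Over (Spec (CommRingCat.of k))))
local notation "c₀" => IsLocalRing.closedPoint k

/-- A subgroup of the points of a lattice with divisible quotient is everything. -/
theorem lattice_eq_top {L : Over (Spec (CommRingCat.of k))} [GrpObj L] (hL : OneMot.IsLattice L)
    (H : Subgroup (pt₀ ⟶ L)) (h : ∀ y, ∀ m : ℕ, 0 < m → ∃ z, y / z ^ m ∈ H) (y : pt₀ ⟶ L) : y ∈ H := by
  obtain ⟨⟨r, ψ, hψ⟩, -⟩ := lattice_props hL
  let S : Submodule ℤ (Fin r → ℤ) := AddSubgroup.toIntSubmodule (H.comap ψ).toAddSubgroup'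
  have hS : ∀ v, v ∈ S ↔ ψ (Multiplicative.ofAdd v) ∈ H := fun v => Iff.rfl
  obtain ⟨v, rfl⟩ := hψ.2 y
  have : v.toAdd ∈ S := by
    rw [eq_top_of_divisible S fun v m hm => ?_]
    · trivial
    obtain ⟨z, hz⟩ := h (ψ (Multiplicative.ofAdd v)) m hm
    obtain ⟨w, rfl⟩ := hψ.2 z
    refine ⟨w.toAdd, (hS _).2 ?_⟩
    rwa [ofAdd_sub, ofAdd_nsmul, ofAdd_toAdd, map_div, map_pow]
  exact (hS _).1 this

/-- A lattice is etale. -/
theorem lattice_etale {L : Over (Spec (CommRingCat.of k))} [GrpObj L] (hL : OneMot.IsLattice L) : Etale L.hom := by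
  obtain ⟨S', f, hf, ⟨w, -⟩, r, e, -⟩ := hL (IsLocalRing.closedPoint k)
  haveI := hf
  haveI : Surjective f := ⟨fun c => ⟨w, Subsingleton.elim (α := PrimeSpectrum k) _ _⟩⟩
  haveI : Etale (Sigma.desc fun _ : Multiplicative (Fin r → ℤ) => 𝟙 S') :=
    IsZariskiLocalAtSource.sigmaDesc fun _ => inferInstance
  haveI : IsIso e.hom.left := inferInstanceAs (IsIso ((Over.forget _).map e.hom))
  have h2 : Etale (pullback.snd L.hom f) := by
    have : Etale (e.hom.left ≫ Sigma.desc fun _ : Multiplicative (Fin r → ℤ) => 𝟙 S') := inferInstance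
    have e2 : e.hom.left ≫ (Sigma.desc fun _ : Multiplicative (Fin r → ℤ) => 𝟙 S') = pullback.snd L.hom f :=
      Over.w e.hom
    rwa [e2] at this
  exact MorphismProperty.of_pullback_snd_of_descendsAlong (P := @Etale)
    (Q := @Surjective ⊓ @Flat ⊓ @LocallyOfFinitePresentation) ⟨⟨‹_›, inferInstance⟩, inferInstance⟩ h2

/-- A flat monomorphism locally of finite presentation which is surjective is an isomorphism. -/
theorem isIso_of_flat_mono {X Y : Over (Spec (CommRingCat.of k))} (φ : X ⟶ Y) [Mono φ] [Flat φ.left]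
    [LocallyOfFinitePresentation φ.left] [Surjective φ.left] : IsIso φ := by
  haveI : Mono φ.left := inferInstanceAs (Mono ((Over.forget _).map φ))
  haveI : IsOpenImmersion φ.left := IsOpenImmersion.of_flat_of_mono φ.left
  haveI : Epi φ.left.base := (TopCat.epi_iff_surjective _).2 φ.left.surjective
  haveI : IsIso φ.left := IsOpenImmersion.isIso φ.left
  haveI : IsIso ((Over.forget _).map φ) := ‹IsIso φ.left›
  exact isIso_of_reflects_iso φ (Over.forget _)

/-- A morphism of lattices bijective on rational points is an isomorphism. -/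
theorem lattice_isIso {L L' : Over (Spec (CommRingCat.of k))} [GrpObj L] [GrpObj L'] (hL : OneMot.IsLattice L)
    (hL' : OneMot.IsLattice L') (φ : L ⟶ L') (h : Function.Bijective fun x : pt₀ ⟶ L => x ≫ φ) : IsIso φ := by
  haveI := lattice_etale hL
  haveI := lattice_etale hL'
  haveI := GrpSchLib.AntiAffine.isSeparated_grp L
  haveI : Etale (φ.left ≫ L'.hom) := by rw [Over.w φ]; infer_instance
  haveI : Etale φ.left := Etale.of_comp φ.left L'.hom
  haveI : Mono φ := ⟨fun {Z} a b hab => by
    have hp := ((IsPullback.of_hasPullback φ φ).map (Over.forget (Spec (CommRingCat.of k))))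
    haveI : Etale (pullback.fst φ φ).left := MorphismProperty.of_isPullback (P := @Etale) hp.flip ‹Etale φ.left›
    haveI : Smooth (pullback φ φ).hom := by
      rw [← Over.w (pullback.fst φ φ)]; infer_instance
    have e : pullback.fst φ φ = pullback.snd φ φ := by
      refine Over.OverMorphism.ext ?_
      haveI : IsReduced (pullback φ φ).left := GrpSchLib.isReduced_of_smooth_field (pullback φ φ).hom
      haveI : LocallyOfFiniteType ((pullback.fst φ φ).left ≫ L.hom) := by rw [Over.w]; infer_instance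
      refine ext_of_apply_eq L.hom Set.univ isOpen_univ.isLocallyClosed dense_univ (fun x _ hx => ?_)
        ((Over.w _).trans (Over.w _).symm)
      obtain ⟨s, rfl⟩ := AVSubLib.exists_pt hx
      refine congrArg (fun t : pt₀ ⟶ L => t.left c₀) (h.1 ?_ : s ≫ pullback.fst φ φ = s ≫ pullback.snd φ φ)
      simp only [Category.assoc, pullback.condition]
    rw [← pullback.lift_fst a b hab, e, pullback.lift_snd]⟩
  haveI : JacobsonSpace L'.left := LocallyOfFiniteType.jacobsonSpace L'.hom
  haveI : Surjective φ.left := by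
    refine ⟨Set.range_eq_univ.mp ?_⟩
    by_contra hne
    obtain ⟨x, hx, hxc⟩ := nonempty_inter_closedPoints (Z := (Set.range φ.left)ᶜ)
      (Set.nonempty_compl.2 hne) φ.left.isOpenMap.isOpen_range.isClosed_compl.isLocallyClosed
    obtain ⟨s, rfl⟩ := AVSubLib.exists_pt (mem_closedPoints_iff.mp hxc)
    obtain ⟨t, ht⟩ := h.2 s
    exact hx ⟨t.left c₀, congrArg (fun q : pt₀ ⟶ L' => q.left c₀) ht⟩
  exact isIso_of_flat_mono φ

end Groth.Agent.OneMotFF
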