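import Groth.Agent.OneMotFF.Torus
import Groth.Agent.AVSubLib.Torsion
import Groth.Agent.MultSchFac.Local
import Groth.Agent.ExtEquiv.Basic
import Groth.Agent.GITQuot.Fppf
import Groth.Agent.TorsPtsLib.Isog
import Groth.Prelude.Def_OneMot

/-!
# Points of semi-abelian schemes over an algebraically closed field
-/

universe u

set_option autoImplicit false
set_option backward.isDefEq.respectTransparency false
set_option backward.isDefEq.respectTransparency.types false
set_option linter.style.haveILetI false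

open CategoryTheory CategoryTheory.Limits MonoidalCategory CartesianMonoidalCategory MonObj AlgebraicGeometry
open Opposite

namespace Groth.Agent.OneMotFF

variable {k : Type u} [Field k] [IsAlgClosed k]

local notation "pt₀" => (𝟙_ (Over (Spec (CommRingCat.of k))))

/-- Over an algebraically closed field a covering sieve of the base is trivial. -/
theorem mem_id_of_cover {R : Sieve pt₀}
    (hR : R ∈ QuotSh.J Scheme.fppfPrecoverage (Spec (CommRingCat.of k)) pt₀) : R (𝟙 _) := by
  obtain ⟨I, W, f, hf, -, hlfp, hsurj⟩ := GITQuot.exists_cover ((GrothendieckTopology.mem_over_iff _ _).1 hR)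
  obtain ⟨i, w, -⟩ := hsurj (IsLocalRing.closedPoint k)
  let f' : W i ⟶ Spec (CommRingCat.of k) := f i
  haveI : LocallyOfFinitePresentation f' := hlfp i
  haveI : JacobsonSpace (W i) := LocallyOfFiniteType.jacobsonSpace f'
  obtain ⟨y, -, hy⟩ := nonempty_inter_closedPoints (X := W i) ⟨w, Set.mem_univ w⟩ isOpen_univ.isLocallyClosed
  have hm := (Sieve.overEquiv_iff _ _).1 (hf i)
  let m : pt₀ ⟶ Over.mk (f i ≫ (pt₀).hom) := Over.homMk (pointOfClosedPoint f' y hy) (by
    show pointOfClosedPoint f' y hy ≫ f' ≫ (pt₀).hom = (pt₀).hom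
    rw [← Category.assoc, pointOfClosedPoint_comp]
    exact Category.id_comp _)
  have h := R.downward_closed hm m
  convert h using 1
  exact toUnit_unique _ _

section SemiAb

variable {T G A : Over (Spec (CommRingCat.of k))} [GrpObj T] [IsCommMonObj T] [GrpObj G] [IsCommMonObj G]
  [GrpObj A] [IsCommMonObj A] {incl : T ⟶ G} {proj : G ⟶ A} [IsMonHom incl] [IsMonHom proj]
  (hG : OneMot.IsSemiAbWith T G A incl proj)

include hG in
/-- Points of the quotient lift. -/
theorem exists_lift_proj (a : pt₀ ⟶ A) : ∃ g : pt₀ ⟶ G, g ≫ proj = a := by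
  obtain ⟨R, hR, hl⟩ := MultSchFac.locSurj_of_epi proj hG.shortExact.epi_g pt₀ a
  obtain ⟨x, hx⟩ := hl (𝟙 _) (mem_id_of_cover hR)
  exact ⟨x, by rw [hx, Category.id_comp]⟩

include hG in
/-- Points killed by the projection come from the torus. -/
theorem exists_lift_incl (g : pt₀ ⟶ G) (hg : g ≫ proj = 1) : ∃ t : pt₀ ⟶ T, t ≫ incl = g := by
  obtain ⟨R, hR, hl⟩ := MultSchFac.lift_of_exact incl proj hG.comp hG.shortExact.exact g hg
  obtain ⟨x, hx⟩ := hl (𝟙 _) (mem_id_of_cover hR)
  exact ⟨x, by rw [hx, Category.id_comp]⟩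

/-- The rational points of a torus form a divisible group. -/
theorem torus_divisible (hT : Red.IsTorus T) {n : ℕ} (hn : 0 < n) (t : pt₀ ⟶ T) :
    ∃ s : pt₀ ⟶ T, s ^ n = t := by
  haveI := (Chevalley.CommAff.pow_torus_props hT hn).1
  haveI := (Chevalley.CommAff.pow_torus_props hT hn).2
  obtain ⟨s, hs⟩ := TorsPtsLib.exists_lift_point (𝟙 (Spec (CommRingCat.of k))) ((𝟙 T) ^ n) t
  refine ⟨s, ?_⟩
  rw [MonObj.comp_pow, Category.comp_id] at hs
  exact hs

include hG in
theorem abelian_props : IsProper A.hom ∧ GeometricallyIntegral A.hom := by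
  haveI : IsProper A.hom := hG.abelian.proper
  haveI : Smooth A.hom := hG.abelian.smooth
  haveI : ConnectedSpace A.left := by
    haveI := hG.abelian.connectedFibres (IsLocalRing.closedPoint k)
    have hs : Function.Surjective (A.hom.fiberι (IsLocalRing.closedPoint k)) := fun x => by
      have : x ∈ Set.range (A.hom.fiberι (IsLocalRing.closedPoint k)) := by
        rw [Scheme.Hom.range_fiberι]
        exact Subsingleton.elim (α := PrimeSpectrum k) _ _
      exact this
    exact hs.connectedSpace (A.hom.fiberι _).continuous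
  exact ⟨inferInstance, AlbQuotLib.geometricallyIntegral A⟩

include hG in
/-- The rational points of a semi-abelian scheme form a divisible group. -/
theorem divisible {n : ℕ} (hn : 0 < n) (g : pt₀ ⟶ G) : ∃ h : pt₀ ⟶ G, h ^ n = g := by
  obtain ⟨_, _⟩ := abelian_props hG
  haveI : Smooth A.hom := hG.abelian.smooth
  haveI : GeometricallyConnected A.hom := TorsPtsLib.geometricallyConnected A.hom
  obtain ⟨b, hb⟩ := TorsPtsLib.exists_pow_eq A n hn (g ≫ proj)
  obtain ⟨h, hh⟩ := exists_lift_proj hG b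
  obtain ⟨t, ht⟩ := exists_lift_incl hG (g / h ^ n) (by
    rw [GrpObj.div_comp, MonObj.pow_comp, hh, hb, div_self'])
  obtain ⟨s, hs⟩ := torus_divisible hG.torus hn t
  exact ⟨h * (s ≫ incl), by rw [mul_pow, ← MonObj.pow_comp, hs, ht, mul_comm, div_mul_cancel]⟩

include hG in
/-- A homomorphism killing the torsion points of a semi-abelian scheme is trivial. -/
theorem eq_one_of_semiAb [CharZero k] {B : Over (Spec (CommRingCat.of k))} [GrpObj B] [IsCommMonObj B] (φ : G ⟶ B)
    [IsMonHom φ] (h : ∀ (n : ℕ) (a : pt₀ ⟶ G), 0 < n → a ^ n = 1 → a ≫ φ = 1) : φ = 1 := by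
  have h1 : incl ≫ φ = 1 := eq_one_of_torus hG.torus (incl ≫ φ) fun n a hn ha => by
    rw [← Category.assoc]
    exact h n _ hn (by rw [← MonObj.pow_comp, ha, MonObj.one_comp])
  haveI : Epi (CGrpSh.seq Scheme.fppfPrecoverage incl proj hG.comp).g := hG.shortExact.epi_g
  obtain ⟨ψ, hψ, hψ'⟩ := ExtEquiv.exists_ptsMap Scheme.fppfPrecoverage
    (hG.shortExact.exact.desc (CGrpSh.ptsMap Scheme.fppfPrecoverage φ) (by
      show CGrpSh.ptsMap _ incl ≫ _ = 0
      rw [← CGrpSh.ptsMap_comp]
      have e : ∀ (f : T ⟶ B) [IsMonHom f], f = 1 → CGrpSh.ptsMap Scheme.fppfPrecoverage f = 0 := by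
        intro f _ hf
        subst hf
        exact CGrpSh.ptsMap_one Scheme.fppfPrecoverage
      exact e _ h1))
  haveI := hψ
  have hφ : proj ≫ ψ = φ := by
    apply ExtEquiv.ptsMap_injective Scheme.fppfPrecoverage
    rw [CGrpSh.ptsMap_comp, hψ']
    exact hG.shortExact.exact.g_desc _ _
  obtain ⟨_, _⟩ := abelian_props hG
  haveI : IsSeparated B.hom := GrpSchLib.AntiAffine.isSeparated_grp B
  haveI : Fact (Nat.Prime 2) := ⟨Nat.prime_two⟩
  have hψ1 : ψ = 1 := by
    refine AVSubLib.eq_one_of_kills A 2 (by exact_mod_cast (two_ne_zero : (2 : k) ≠ 0)) B ψ fun m a ha => ?_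
    obtain ⟨g, hg⟩ := exists_lift_proj hG a
    obtain ⟨t, ht⟩ := exists_lift_incl hG (g ^ 2 ^ m) (by rw [MonObj.pow_comp, hg, ha])
    obtain ⟨s, hs⟩ := torus_divisible hG.torus (pow_pos two_pos m) t
    have hg' : (g / (s ≫ incl)) ^ 2 ^ m = 1 := by
      rw [div_pow, ← MonObj.pow_comp, hs, ht, div_self']
    have h2 := h _ _ (pow_pos two_pos m) hg'
    have h3 : (s ≫ incl) ≫ proj = 1 := by rw [Category.assoc, hG.comp, MonObj.comp_one]
    rw [← hφ, ← Category.assoc, GrpObj.div_comp, hg, h3, div_one] at h2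
    exact h2
  rw [← hφ, hψ1, MonObj.comp_one]

end SemiAb

end Groth.Agent.OneMotFF
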