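import Groth.Agent.OneMotFF.Pts
import Groth.Agent.ThirdIso.Basic
import Groth.Agent.AlgSpLib.Descends
import Groth.Agent.EtFound.Descent
import Groth.Agent.Chevalley.CommAff.SemiAb

/-!
# Sheaf-level semi-abelian schemes over a field are semi-abelian varieties
-/

universe u

set_option autoImplicit false
set_option backward.isDefEq.respectTransparency false
set_option backward.isDefEq.respectTransparency.types false
set_option linter.style.haveILetI false
set_option maxHeartbeats 1000000

open CategoryTheory CategoryTheory.Limits MonoidalCategory CartesianMonoidalCategory MonObj AlgebraicGeometry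
open Opposite

namespace Groth.Agent.OneMotFF

variable {k : Type u} [Field k] {T G A : Over (Spec (CommRingCat.of k))}
  [GrpObj T] [IsCommMonObj T] [GrpObj G] [IsCommMonObj G]
  [GrpObj A] [IsCommMonObj A] {incl : T ⟶ G} {proj : G ⟶ A} [IsMonHom incl] [IsMonHom proj]
  (hG : OneMot.IsSemiAbWith T G A incl proj)

include hG in
/-- The inclusion is injective on points. -/
theorem incl_injective {X : Over (Spec (CommRingCat.of k))} {a b : X ⟶ T} (h : a ≫ incl = b ≫ incl) : a = b := by
  haveI : Mono (CGrpSh.ptsMap Scheme.fppfPrecoverage incl) := hG.shortExact.mono_f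
  haveI : Mono (CGrpSh.ptsMap Scheme.fppfPrecoverage incl).hom :=
    inferInstanceAs (Mono ((sheafToPresheaf _ _).map (CGrpSh.ptsMap Scheme.fppfPrecoverage incl)))
  haveI : Mono ((CGrpSh.ptsMap Scheme.fppfPrecoverage incl).hom.app (op X)) :=
    inferInstanceAs (Mono (((evaluation _ AddCommGrpCat.{u + 1}).obj (op X)).map
      (CGrpSh.ptsMap Scheme.fppfPrecoverage incl).hom))
  have hinj := (AddCommGrpCat.mono_iff_injective _).1
    (inferInstance : Mono ((CGrpSh.ptsMap Scheme.fppfPrecoverage incl).hom.app (op X)))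
  exact congrArg (fun z => Additive.toMul (ULift.down z))
    (hinj (a₁ := ULift.up (Additive.ofMul a)) (a₂ := ULift.up (Additive.ofMul b))
      (ULift.ext _ _ (congrArg Additive.ofMul h)))

include hG in
/-- Points killed by the projection come from the torus. -/
theorem exists_lift_incl' {X : Over (Spec (CommRingCat.of k))} (x : X ⟶ G) (hx : x ≫ proj = 1) :
    ∃ z : X ⟶ T, z ≫ incl = x := by
  obtain ⟨R, hR, hl⟩ := MultSchFac.lift_of_exact incl proj hG.comp hG.shortExact.exact x hx
  choose z hz using hl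
  let fam : Presieve.FamilyOfElements (yoneda.obj T) R.arrows := fun W f hf => z f hf
  have hfam : fam.Compatible := by
    intro W₁ W₂ V g₁ g₂ f₁ f₂ h₁ h₂ e
    show g₁ ≫ z f₁ h₁ = g₂ ≫ z f₂ h₂
    refine incl_injective hG ?_
    rw [Category.assoc, Category.assoc, hz, hz, ← Category.assoc, e, Category.assoc]
  obtain ⟨z', hz', -⟩ := (GrothendieckTopology.Subcanonical.isSheaf_of_isRepresentable
    (J := QuotSh.J Scheme.fppfPrecoverage (Spec (CommRingCat.of k))) (yoneda.obj T)) R hR fam hfam
  refine ⟨z', MultSchFac.hom_ext_cover _ hR fun W f hf => ?_⟩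
  have h : f ≫ z' = z f hf := hz' f hf
  rw [← Category.assoc, h, hz f hf]

include hG in
/-- The torus is the kernel of the projection. -/
theorem isKernel : AlgGrp.IsKernel incl proj := by
  refine ThirdIso.isPullback_of_points (by rw [hG.comp, Hom.one_def]) (fun X c c' h1 _ => incl_injective hG h1)
    fun X a b hab => ?_
  obtain ⟨z, hz⟩ := exists_lift_incl' hG a (by rw [hab, Hom.one_def, toUnit_unique b (toUnit X)])
  exact ⟨X, 𝟙 X, z, ⟨inferInstanceAs (Surjective (𝟙 X.left)), inferInstanceAs (Flat (𝟙 X.left)),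
    inferInstanceAs (LocallyOfFinitePresentation (𝟙 X.left))⟩, by rw [hz, Category.id_comp], toUnit_unique _ _⟩

include hG in
/-- A quasi-compact fppf cover of the abelian quotient lifts to the extension. -/
theorem exists_cover_lift : ∃ (W : Over (Spec (CommRingCat.of k))) (w : W ⟶ A) (σ : W ⟶ G),
    σ ≫ proj = w ∧ Flat w.left ∧ LocallyOfFinitePresentation w.left ∧ Surjective w.left ∧
      QuasiCompact w.left := by
  haveI : IsProper A.hom := hG.abelian.proper
  haveI : CompactSpace A.left := (quasiCompact_iff_compactSpace A.hom).mp inferInstance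
  obtain ⟨R, hR, hl⟩ := MultSchFac.locSurj_of_epi proj hG.shortExact.epi_g A (𝟙 A)
  obtain ⟨I, V, f, hf, hflat, hlfp, hsurj⟩ := GITQuot.exists_cover ((GrothendieckTopology.mem_over_iff _ _).1 hR)
  choose i v hv using hsurj
  choose U hU hvU _ using fun a => exists_isAffineOpen_mem_and_subset (x := v a) (U := ⊤) trivial
  let g : ∀ a : A.left, (U a).toScheme ⟶ A.left := fun a => (U a).ι ≫ f (i a)
  have hgf : ∀ a, Flat (g a) := fun a => by haveI := hflat (i a); infer_instance
  have hgl : ∀ a, LocallyOfFinitePresentation (g a) := fun a => by haveI := hlfp (i a); infer_instance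
  have hgo : ∀ a, IsOpen (Set.range (g a).base) := fun a => by
    haveI := hgf a; haveI := hgl a
    exact (g a).isOpenMap.isOpen_range
  have hga : ∀ a : A.left, a ∈ Set.range (g a).base := fun a => ⟨⟨v a, hvU a⟩, hv a⟩
  obtain ⟨s, hs⟩ := isCompact_univ.elim_finite_subcover (fun a => Set.range (g a).base) hgo
    fun a _ => Set.mem_iUnion.2 ⟨a, hga a⟩
  have hm : ∀ a, ∃ x : Over.mk (g a ≫ A.hom) ⟶ G, x ≫ proj = Over.homMk (g a) := by
    intro a
    have h1 := (Sieve.overEquiv_iff _ _).1 (hf (i a))
    let m : Over.mk (g a ≫ A.hom) ⟶ Over.mk (f (i a) ≫ A.hom) := Over.homMk (U a).ι (by simp [g])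
    obtain ⟨x, hx⟩ := hl _ (R.downward_closed h1 m)
    refine ⟨x, hx.trans ?_⟩
    rw [Category.comp_id]
    ext
    rfl
  choose x hx using hm
  let W : Over (Spec (CommRingCat.of k)) :=
    Over.mk (Sigma.desc (fun a : s => g a.1 ≫ A.hom) : (∐ fun a : s => (U a.1).toScheme) ⟶ _)
  let w : W ⟶ A := Over.homMk (Sigma.desc fun a : s => g a.1) (Sigma.hom_ext _ _ fun a => by
    show Sigma.ι (fun a : s => (U a.1).toScheme) a ≫ _ ≫ A.hom =
      Sigma.ι (fun a : s => (U a.1).toScheme) a ≫ Sigma.desc (fun a : s => g a.1 ≫ A.hom)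
    simp)
  let σ : W ⟶ G := Over.homMk (Sigma.desc fun a : s => (x a.1).left) (Sigma.hom_ext _ _ fun a => by
    show Sigma.ι (fun a : s => (U a.1).toScheme) a ≫ _ ≫ G.hom =
      Sigma.ι (fun a : s => (U a.1).toScheme) a ≫ Sigma.desc (fun a : s => g a.1 ≫ A.hom)
    simp)
  have e : σ ≫ proj = w := by
    ext : 1
    refine Sigma.hom_ext _ _ fun a => ?_
    show Sigma.ι (fun a : s => (U a.1).toScheme) a ≫ (Sigma.desc fun a : s => (x a.1).left) ≫ proj.left =
      Sigma.ι (fun a : s => (U a.1).toScheme) a ≫ Sigma.desc fun a : s => g a.1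
    rw [Sigma.ι_desc_assoc, Sigma.ι_desc, ← Over.comp_left, hx a.1]
    rfl
  refine ⟨W, w, σ, e, IsZariskiLocalAtSource.sigmaDesc fun a => hgf a.1,
    IsZariskiLocalAtSource.sigmaDesc fun a => hgl a.1, ⟨fun a => ?_⟩, ?_⟩
  · obtain ⟨b, hb⟩ := Set.mem_iUnion.1 (hs (Set.mem_univ a))
    obtain ⟨hb', y, hy⟩ := Set.mem_iUnion.1 hb
    refine ⟨(Sigma.ι (fun a : s => (U a.1).toScheme) ⟨b, hb'⟩).base y, ?_⟩
    show (Sigma.ι (fun a : s => (U a.1).toScheme) ⟨b, hb'⟩ ≫ Sigma.desc fun a : s => g a.1).base y = a
    rw [Sigma.ι_desc]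
    exact hy
  · haveI : ∀ a : s, IsAffine (U a.1).toScheme := fun a => hU a.1
    haveI : IsAffine W.left := inferInstanceAs (IsAffine (∐ fun a : s => (U a.1).toScheme))
    haveI : QuasiCompact (w.left ≫ A.hom) := by rw [Over.w w]; exact (quasiCompact_iff_compactSpace _).2 inferInstance
    exact QuasiCompact.of_comp w.left A.hom

include hG in
/-- A sheaf-level extension of an abelian variety by a torus is a semi-abelian variety. -/
theorem isSA : LocallyOfFiniteType G.hom ∧ QuasiCompact G.hom ∧ Flat proj.left ∧ Surjective proj.left ∧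
    IsClosedImmersion incl.left ∧ Chevalley.CommAff.IsSA G := by
  haveI : IsProper A.hom := hG.abelian.proper
  haveI : Smooth A.hom := hG.abelian.smooth
  obtain ⟨W, w, σ, hσ, _, _, _, _⟩ := exists_cover_lift hG
  let Ψ : T ⊗ W ⟶ G := (fst T W ≫ incl) * (snd T W ≫ σ)
  have key : ∀ (X : Over (Spec (CommRingCat.of k))) (c : X ⟶ T ⊗ W),
      c ≫ Ψ = ((c ≫ fst T W) ≫ incl) * ((c ≫ snd T W) ≫ σ) := fun X c => by
    simp [Ψ, MonObj.comp_mul]
  have hp : IsPullback (snd T W) Ψ w proj := by
    refine ThirdIso.isPullback_of_points ?_ (fun X c c' h1 h2 => ?_) fun X a b hab => ?_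
    · rw [show Ψ = (fst T W ≫ incl) * (snd T W ≫ σ) from rfl, MonObj.mul_comp, Category.assoc, hG.comp,
        MonObj.comp_one, _root_.one_mul, Category.assoc, hσ]
    · rw [key, key, h1] at h2
      exact CartesianMonoidalCategory.hom_ext _ _ (incl_injective hG (mul_right_cancel h2)) h1
    · obtain ⟨z, hz⟩ := exists_lift_incl' hG (b / (a ≫ σ)) (by
        rw [GrpObj.div_comp, Category.assoc, hσ, hab, div_self'])
      refine ⟨X, 𝟙 X, lift z a, ⟨inferInstanceAs (Surjective (𝟙 X.left)), inferInstanceAs (Flat (𝟙 X.left)),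
        inferInstanceAs (LocallyOfFinitePresentation (𝟙 X.left))⟩, by rw [lift_snd, Category.id_comp], ?_⟩
      rw [key, lift_fst, lift_snd, hz, div_mul_cancel, Category.id_comp]
  have hsq := hp.map (Over.forget _)
  have hQ : (@Surjective ⊓ @Flat ⊓ @QuasiCompact : MorphismProperty Scheme.{u}) w.left := ⟨⟨‹_›, ‹_›⟩, ‹_›⟩
  obtain ⟨_, _, _, _, _⟩ := Chevalley.CommAff.torus_props hG.torus
  haveI : Flat (snd T W).left := by rw [Over.snd_left]; exact MorphismProperty.pullback_snd _ _ inferInstance
  haveI : LocallyOfFiniteType (snd T W).left := by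
    rw [Over.snd_left]; exact MorphismProperty.pullback_snd _ _ inferInstance
  haveI : QuasiCompact (snd T W).left := by
    rw [Over.snd_left]; exact MorphismProperty.pullback_snd _ _ inferInstance
  haveI := EtFound.fpqc_quasiCompact.{u}
  haveI hfl : Flat proj.left :=
    MorphismProperty.of_isPullback_of_descendsAlong (P := @Flat) hsq hQ ‹_›
  haveI : LocallyOfFiniteType proj.left :=
    MorphismProperty.of_isPullback_of_descendsAlong (P := @LocallyOfFiniteType) hsq hQ ‹_›
  haveI : QuasiCompact proj.left :=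
    MorphismProperty.of_isPullback_of_descendsAlong (P := @QuasiCompact) hsq hQ ‹_›
  haveI : Surjective proj.left := by
    haveI : Surjective (σ.left ≫ proj.left) := by rw [← Over.comp_left, hσ]; infer_instance
    exact Surjective.of_comp σ.left proj.left
  have hl : LocallyOfFiniteType G.hom := by rw [← Over.w proj]; infer_instance
  have hq : QuasiCompact G.hom := by rw [← Over.w proj]; infer_instance
  haveI : IsSeparated A.hom := GrpSchLib.AntiAffine.isSeparated_grp A
  have hci : IsClosedImmersion incl.left := by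
    haveI : IsClosedImmersion (η[A].left ≫ A.hom) := by
      rw [Over.w η[A]]; exact inferInstanceAs (IsClosedImmersion (𝟙 (Spec (CommRingCat.of k))))
    haveI : IsClosedImmersion η[A].left := IsClosedImmersion.of_comp η[A].left A.hom
    exact MorphismProperty.of_isPullback (P := @IsClosedImmersion) ((isKernel hG).map (Over.forget _)).flip ‹_›
  haveI : ConnectedSpace A.left := by
    haveI := hG.abelian.connectedFibres (IsLocalRing.closedPoint k)
    have hs : Function.Surjective (A.hom.fiberι (IsLocalRing.closedPoint k)) := fun x => by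
      have : x ∈ Set.range (A.hom.fiberι (IsLocalRing.closedPoint k)) := by
        rw [Scheme.Hom.range_fiberι]
        exact Subsingleton.elim (α := PrimeSpectrum k) _ _
      exact this
    exact hs.connectedSpace (A.hom.fiberι _).continuous
  exact ⟨hl, hq, hfl, ‹_›, hci, T, inferInstance, incl, A, inferInstance, proj, inferInstance, hci, hG.torus,
    inferInstance, ‹_›, hfl, isKernel hG, ‹_›, ‹_›, ‹_›⟩

end Groth.Agent.OneMotFF
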