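import Groth.Agent.TorusBilin.Central
import Groth.Agent.Chevalley.CommAff.TorusPow
import Groth.Agent.Chevalley.CommAff.SemiAb
import Mathlib.AlgebraicGeometry.Morphisms.Finite
import Mathlib.AlgebraicGeometry.AlgClosed.Basic

/-!
# Torsion points of a torus over an algebraically closed field
-/

universe u

set_option autoImplicit false
set_option backward.isDefEq.respectTransparency false
set_option backward.isDefEq.respectTransparency.types false
set_option linter.style.haveILetI false

open CategoryTheory CategoryTheory.Limits MonoidalCategory CartesianMonoidalCategory MonObj AlgebraicGeometry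
open Groth.Agent.DSPtsLib Groth.Agent.Chevalley.CommAff
open Groth.Agent.GrpSchLib.AffineHopf (sp)

namespace Groth.Agent.OneMotFF

variable {k : Type u} [Field k] [IsAlgClosed k]

local notation "pt₀" => (𝟙_ (Over (Spec (CommRingCat.of k))))

/-- The points of a finite scheme over an algebraically closed field are rational. -/
theorem exists_factor_rational {N : Scheme.{u}} (h : N ⟶ Spec (CommRingCat.of k)) [IsFinite h] {K : Type u}
    [Field K] (φ : k →+* K) (p : Spec (CommRingCat.of K) ⟶ N) (hp : p ≫ h = Spec.map (CommRingCat.ofHom φ)) :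
    ∃ y : Spec (CommRingCat.of k) ⟶ N, y ≫ h = 𝟙 _ ∧ Spec.map (CommRingCat.ofHom φ) ≫ y = p := by
  haveI : IsAffine N := isAffine_of_isAffineHom h
  obtain ⟨f, hf⟩ := Spec.map_surjective (p ≫ N.isoSpec.hom)
  obtain ⟨s, hs⟩ := Spec.map_surjective (N.isoSpec.inv ≫ h)
  haveI : IsFinite (Spec.map s) := by rw [hs]; infer_instance
  have hfin : s.hom.Finite := (IsFinite.SpecMap_iff s).mp inferInstance
  have hsf : s ≫ f = CommRingCat.ofHom φ := Spec.map_injective (by
    rw [Spec.map_comp, hf, hs, Category.assoc, Iso.hom_inv_id_assoc, hp])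
  have hrange : ∀ a, ∃ c, φ c = f.hom a := by
    intro a
    letI := φ.toAlgebra
    obtain ⟨P, hP, hPa⟩ := hfin.to_isIntegral a
    have hint : IsIntegral k (f.hom a) := ⟨P, hP, by
      have h1 := congrArg f.hom hPa
      rw [Polynomial.hom_eval₂, map_zero] at h1
      rw [show algebraMap k K = f.hom.comp s.hom from (congrArg CommRingCat.Hom.hom hsf).symm]
      exact h1⟩
    exact (algebraMap k K).mem_range.mp (minpoly.mem_range_of_degree_eq_one k (f.hom a)
      (IsAlgClosed.degree_eq_one_of_irreducible k (minpoly.irreducible hint)))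
  choose c hc using hrange
  have hinj : Function.Injective φ := φ.injective
  let g : N.presheaf.obj (Opposite.op ⊤) →+* k :=
    { toFun := c
      map_one' := hinj (by rw [hc, map_one, map_one])
      map_mul' := fun a b => hinj (by rw [hc, map_mul, map_mul, hc, hc])
      map_zero' := hinj (by rw [hc, map_zero, map_zero])
      map_add' := fun a b => hinj (by rw [hc, map_add, map_add, hc, hc]) }
  have hg : CommRingCat.ofHom g ≫ CommRingCat.ofHom φ = f := by ext a; exact hc a
  refine ⟨Spec.map (CommRingCat.ofHom g) ≫ N.isoSpec.inv, ?_, ?_⟩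
  · rw [Category.assoc, ← hs, ← Spec.map_comp, ← Spec.map_id]
    congr 1
    ext a
    apply hinj
    show φ (c (s.hom a)) = φ a
    rw [hc]
    exact congr($hsf a)
  · rw [← Category.assoc, ← Spec.map_comp, hg, hf, Category.assoc, Iso.hom_inv_id, Category.comp_id]

/-- A homomorphism killing the torsion points of a torus is trivial. -/
theorem eq_one_of_torus {T B : Over (Spec (CommRingCat.of k))} [GrpObj T] [GrpObj B] (hT : Red.IsTorus T)
    (φ : T ⟶ B) [IsMonHom φ] (h : ∀ (n : ℕ) (a : pt₀ ⟶ T), 0 < n → a ^ n = 1 → a ≫ φ = 1) : φ = 1 := by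
  obtain ⟨K, _, _, χ, r, ⟨e⟩⟩ := TorusBilin.exists_split hT
  let g := Spec.map (CommRingCat.ofHom χ)
  haveI := e.inv.hom.isMonHom_hom
  haveI : IsIso e.inv.hom.hom := ((Grp.forget _).mapIso e).isIso_inv
  haveI : IsSeparated (Red.bc g B).hom := GrpSchLib.AntiAffine.isSeparated_grp _
  refine GrpSchLib.AntiAffine.eq_of_map_eq χ ?_
  rw [← cancel_epi e.inv.hom.hom]
  refine TorusBilin.ext_torsion _ _ ?_
  rintro x ⟨n, hn, hx⟩
  obtain ⟨q, hq⟩ : ∃ q, q = TorusBilin.pts K r x := ⟨_, rfl⟩
  rw [← hq, Functor.map_one, MonObj.comp_one, MonObj.comp_one]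
  have hqn : q ^ n = 1 := by rw [hq, ← map_pow, hx, map_one]
  obtain ⟨a, ha⟩ : ∃ a, a = theta g (q ≫ e.inv.hom.hom) := ⟨_, rfl⟩
  have hψ : ∀ y z : sp K K ⟶ TorusBilin.Tor K r, theta g ((y * z) ≫ e.inv.hom.hom) =
      theta g (y ≫ e.inv.hom.hom) * theta g (z ≫ e.inv.hom.hom) := fun y z => by
    rw [MonObj.mul_comp, theta_mul]
  let ψ := MonoidHom.mk' (fun y : sp K K ⟶ TorusBilin.Tor K r => theta g (y ≫ e.inv.hom.hom)) hψ
  have han : a ^ n = 1 := by
    rw [ha]
    show (ψ q) ^ n = 1
    rw [← map_pow, hqn, map_one]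
  -- the point factors through the finite kernel of multiplication by `n`
  haveI := (pow_torus_props hT hn).2
  let N := pullback ((𝟙 T) ^ n) η[T]
  haveI : IsFinite N.hom := by
    have h1 := ((IsPullback.of_hasPullback ((𝟙 T) ^ n) η[T]).map (Over.forget (Spec (CommRingCat.of k))))
    have h2 : IsFinite (pullback.snd ((𝟙 T) ^ n) η[T]).left :=
      MorphismProperty.of_isPullback (P := @IsFinite) h1 (inferInstanceAs (IsFinite ((𝟙 T) ^ n).left))
    haveI := h2
    haveI : IsIso (pt₀).hom := inferInstanceAs (IsIso (𝟙 _))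
    rw [← Over.w (pullback.snd ((𝟙 T) ^ n) η[T])]
    infer_instance
  have hw : a ≫ (𝟙 T) ^ n = toUnit _ ≫ η[T] := by
    rw [MonObj.comp_pow, Category.comp_id, han, Hom.one_def]
  let p := pullback.lift a (toUnit _) hw
  obtain ⟨y, hy, hyp⟩ := exists_factor_rational N.hom χ p.left (by
    rw [Over.w p]
    show Spec.map (CommRingCat.ofHom (algebraMap K K)) ≫ g = g
    rw [Algebra.algebraMap_self, CommRingCat.ofHom_id, Spec.map_id, Category.id_comp])
  let y' : pt₀ ⟶ N := Over.homMk y hy
  let b : pt₀ ⟶ T := y' ≫ pullback.fst _ _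
  have hb : b ^ n = 1 := by
    have h1 : y' ≫ pullback.fst ((𝟙 T) ^ n) η[T] ≫ (𝟙 T) ^ n = 1 := by
      rw [pullback.condition, ← Category.assoc, toUnit_unique (y' ≫ _) (toUnit _), ← Hom.one_def]
    rw [← Category.assoc, MonObj.comp_pow, Category.comp_id] at h1
    exact h1
  have hab : a = toUnit _ ≫ b := by
    refine (pullback.lift_fst _ _ hw).symm.trans ?_
    show p ≫ pullback.fst _ _ = toUnit _ ≫ y' ≫ pullback.fst _ _
    rw [← Category.assoc]
    congr 1
    refine Over.OverMorphism.ext ?_
    show p.left = (toUnit ((Over.map g).obj (sp K K))).left ≫ y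
    rw [← hyp]
    congr 1
    show g = Spec.map (CommRingCat.ofHom (algebraMap K K)) ≫ g
    rw [Algebra.algebraMap_self, CommRingCat.ofHom_id, Spec.map_id, Category.id_comp]
  apply (theta_bijective g).injective
  rw [← Category.assoc, TorusBilin.theta_map, ← ha, hab, Category.assoc, h n b hn hb, MonObj.comp_one]
  apply ((Over.mapPullbackAdj g).homEquiv _ _).injective
  rw [theta, Equiv.apply_symm_apply, Adjunction.homEquiv_unit, Functor.map_one, MonObj.comp_one]

end Groth.Agent.OneMotFF
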